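import Cfsg.Agent.Spectra.TwistedTensor

/-!
The spectrum of the extensions of powers of the twisted tensor square by `C₂ × PSL(2,q)`, and
the pigeon-hole argument for direct cubes of a group whose maximal orders outside that spectrum
are at most two in number.
-/

set_option autoImplicit false

open Matrix
open scoped MatrixGroups

namespace Cfsg.Agent.Recognition.ReeCube

open Cfsg.Agent.Spectra Cfsg.Agent.Spectra.TwistedTensor Cfsg.Lib.GLTwo

variable {K : Type} [Field K] [Fintype K] [CharP K 3]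

theorem nine_elt (k : ℕ) : ∃ x : Ext K k, orderOf x = 9 := by
  haveI : Fact (Nat.Prime 3) := ⟨Nat.prime_three⟩
  let u : SL(2, K) := ⟨!![(1 : K), 1; 0, 1], by simp [Matrix.det_fin_two]⟩
  let x : Ext K k := ⟨Multiplicative.ofAdd fun _ => !![(0 : K), 0; 0, 1], ((1 : Two), prj u)⟩
  have hu3 : prj u ^ 3 = 1 := by
    rw [← map_pow, prj_eq_one_iff]
    left
    apply Subtype.ext
    rw [pow_char_of_trace 3 (r := 1) (one_mul 1) (by simp [u, Matrix.trace_fin_two]), one_pow, one_smul,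
      Matrix.SpecialLinearGroup.coe_one]
  refine ⟨x, orderOf_eq_prime_pow (p := 3) (n := 1) ?_
    (PGLTwins.pow_two_mul_eq_one _ (mod_cube k) x (m := 3) (by
      show (((1 : Two), prj u)) ^ 3 = 1
      rw [Prod.pow_mk, one_pow, hu3]; rfl))⟩
  intro h
  rw [pow_one] at h
  have h1 := congrArg SemidirectProduct.left h
  rw [(PGLTwins.left_pow _ x 3).2, Finset.prod_range_succ, Finset.prod_range_succ,
    Finset.prod_range_one] at h1
  have hact : ∀ i : ℕ, act k (x.right ^ i) x.left = mapSL k 1 (u ^ i) x.left := by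
    intro i
    show act k (((1 : Two), prj u) ^ i) x.left = _
    rw [Prod.pow_mk, one_pow, ← map_pow, act_prj]
  rw [hact, hact, hact] at h1
  have h2 := congrFun (congrFun (congrFun (congrArg Multiplicative.toAdd h1) 0) 0) 0
  have hu : ∀ i : ℕ, ((u ^ i : SL(2, K)) : Matrix (Fin 2) (Fin 2) K) = !![1, (i : K); 0, 1] := by
    intro i
    induction i with
    | zero => simp [Matrix.one_fin_two]
    | succ i ih =>
      rw [pow_succ, Matrix.SpecialLinearGroup.coe_mul, ih]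
      simp [u]
      ring
  simp only [mapSL, toAdd_mul, toAdd_ofAdd, Pi.add_apply, Matrix.add_apply, hu, Nat.cast_zero,
    Nat.cast_one, Nat.cast_ofNat] at h2
  simp [sign, x, tw, Matrix.mul_apply, Fin.sum_univ_two, Matrix.vecMul, dotProduct, Matrix.transpose_apply, Matrix.map_apply] at h2
  have h3' : (3 : K) = 0 := by exact_mod_cast CharP.cast_eq_zero K 3
  apply one_ne_zero (α := K)
  linear_combination -h2 + 6 * h3'

theorem ext_spectrum {α : ℕ} (hα3 : 3 ≤ α) (hα : Odd α) (hK : Fintype.card K = 3 ^ α) (k : ℕ) :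
    Set.range (orderOf : Ext K k → ℕ)
      = {d | ∃ n ∈ ({6, 9, 3 ^ α - 1, (3 ^ α + 1) / 2} : Finset ℕ), d ∣ n} := by
  haveI : Fact (Nat.Prime 3) := ⟨Nat.prime_three⟩
  haveI : Fact (Nat.Prime 2) := ⟨Nat.prime_two⟩
  haveI : Finite (Ext K k) := Finite.of_equiv _ SemidirectProduct.equivProd.symm
  set q := 3 ^ α with hq
  have hqge : 27 ≤ q := le_trans (by norm_num) (Nat.pow_le_pow_right (n := 3) (by norm_num) hα3)
  have hq4 : q % 4 = 3 := by
    obtain ⟨r, hr⟩ := hα
    rw [hq, hr, pow_succ, pow_mul, Nat.mul_mod, Nat.pow_mod]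
    norm_num
  have hd2 : Nat.gcd 2 (q - 1) = 2 := Nat.gcd_eq_left (by omega)
  apply Cfsg.Agent.Spectra.range_orderOf_eq
  · intro x
    have h := ext_orders hα hK k x
    rw [hK] at h
    exact h
  · have hpsl : ∀ d, (d ∣ 3 ∨ d ∣ (q - 1) / 2 ∨ d ∣ (q + 1) / 2) → ∃ g : PSL K, orderOf g = d := by
      intro d hd
      refine (psl_spectrum (F := K) 3 d).mpr ?_
      rw [hK, hd2]
      exact hd
    have hinr : ∀ y : Two × PSL K, ∃ g : Ext K k, orderOf g = orderOf y := fun y =>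
      ⟨SemidirectProduct.inr y, orderOf_injective _ SemidirectProduct.inr_injective y⟩
    intro n hn
    simp only [Finset.mem_insert, Finset.mem_singleton] at hn
    rcases hn with rfl | rfl | rfl | rfl
    · obtain ⟨u, hu⟩ := hpsl 3 (Or.inl dvd_rfl)
      obtain ⟨g, hg⟩ := hinr (Multiplicative.ofAdd (1 : ZMod 2), u)
      exact ⟨g, by rw [hg, Prod.orderOf_mk, two_order, hu]; rfl⟩
    · exact nine_elt k
    · obtain ⟨t, ht⟩ := hpsl ((q - 1) / 2) (Or.inr (Or.inl dvd_rfl))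
      obtain ⟨g, hg⟩ := hinr (Multiplicative.ofAdd (1 : ZMod 2), t)
      refine ⟨g, ?_⟩
      rw [hg, Prod.orderOf_mk, two_order, ht,
        Nat.Coprime.lcm_eq_mul ((Nat.coprime_two_left (n := (q - 1) / 2)).mpr (Nat.odd_iff.mpr (by omega)))]
      omega
    · obtain ⟨t, ht⟩ := hpsl ((q + 1) / 2) (Or.inr (Or.inr dvd_rfl))
      obtain ⟨g, hg⟩ := hinr ((1 : Two), t)
      exact ⟨g, by rw [hg, Prod.orderOf_mk, orderOf_one, ht, Nat.lcm_one_left]⟩

/-- `R × R × R` and `R × R × F` have the same element orders if the orders of `F` are orders of `R`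
and every other order of `R` divides one of two orders of `R`. -/
theorem cube_range {R F : Type*} [Group R] [Group F] [Finite R] (a b : ℕ)
    (hsub : Set.range (orderOf : F → ℕ) ⊆ Set.range (orderOf : R → ℕ))
    (ha : ∀ d, d ∣ a → d ∈ Set.range (orderOf : R → ℕ))
    (hb : ∀ d, d ∣ b → d ∈ Set.range (orderOf : R → ℕ))
    (hcov : ∀ d ∈ Set.range (orderOf : R → ℕ), d ∈ Set.range (orderOf : F → ℕ) ∨ d ∣ a ∨ d ∣ b) :
    Set.range (orderOf : R × R × F → ℕ) = Set.range (orderOf : R × R × R → ℕ) := by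
  ext n
  constructor
  · rintro ⟨⟨x, y, f⟩, rfl⟩
    obtain ⟨z, hz⟩ := hsub ⟨f, rfl⟩
    exact ⟨(x, y, z), by simp only [Prod.orderOf_mk, hz]⟩
  · rintro ⟨⟨x, y, z⟩, rfl⟩
    rcases hcov _ ⟨z, rfl⟩ with ⟨f, hf⟩ | hz
    · exact ⟨(x, y, f), by simp only [Prod.orderOf_mk, hf]⟩
    have swap : ∀ a b c : ℕ, a.lcm (b.lcm c) = b.lcm (a.lcm c) := fun a b c => by
      rw [← Nat.lcm_assoc, Nat.lcm_comm a b, Nat.lcm_assoc]
    rcases hcov _ ⟨x, rfl⟩ with ⟨f, hf⟩ | hx
    · exact ⟨(y, z, f), by simp only [Prod.orderOf_mk, hf]; rw [Nat.lcm_comm (orderOf z), swap]⟩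
    rcases hcov _ ⟨y, rfl⟩ with ⟨f, hf⟩ | hy
    · exact ⟨(x, z, f), by simp only [Prod.orderOf_mk, hf]; rw [Nat.lcm_comm (orderOf z)]⟩
    have one : ∃ f : F, orderOf f = 1 := ⟨1, orderOf_one⟩
    obtain ⟨f, hf⟩ := one
    have two : ∀ (u v : R) (w : R) (c : ℕ), (∀ d, d ∣ c → d ∈ Set.range (orderOf : R → ℕ)) →
        orderOf u ∣ c → orderOf v ∣ c →
        ∃ t : R × R × F, orderOf t = (orderOf u).lcm ((orderOf v).lcm (orderOf w)) := by
      intro u v w c hc hu hv
      obtain ⟨t, ht⟩ := hc _ (Nat.lcm_dvd hu hv)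
      exact ⟨(t, w, f), by simp only [Prod.orderOf_mk, hf, ht, Nat.lcm_one_right, Nat.lcm_assoc]⟩
    show ∃ t : R × R × F, orderOf t = orderOf (x, y, z)
    simp only [Prod.orderOf_mk]
    rcases hx with hx | hx <;> rcases hy with hy | hy
    · exact two x y z a ha hx hy
    · rcases hz with hz | hz
      · obtain ⟨t, ht⟩ := two x z y a ha hx hz
        exact ⟨t, by rw [ht, Nat.lcm_comm (orderOf z)]⟩
      · obtain ⟨t, ht⟩ := two y z x b hb hy hz
        exact ⟨t, by rw [ht, ← Nat.lcm_assoc, Nat.lcm_comm]⟩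
    · rcases hz with hz | hz
      · obtain ⟨t, ht⟩ := two y z x a ha hy hz
        exact ⟨t, by rw [ht, ← Nat.lcm_assoc, Nat.lcm_comm]⟩
      · obtain ⟨t, ht⟩ := two x z y b hb hx hz
        exact ⟨t, by rw [ht, Nat.lcm_comm (orderOf z)]⟩
    · exact two x y z b hb hx hy

end Cfsg.Agent.Recognition.ReeCube
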